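import Groth.Agent.L08.Cube.Deform
import Groth.Agent.L08.Cube.Field
import Groth.Agent.L20.DescLocus.AppIso
import Mathlib.AlgebraicGeometry.Geometrically.Integral

/-!
# Slices of a relative product of families with universally trivial pushforward of the structure sheaf
-/

set_option autoImplicit false
set_option linter.style.haveILetI false
set_option linter.unusedSectionVars false
set_option backward.isDefEq.respectTransparency false

universe u

open CategoryTheory CategoryTheory.Limits AlgebraicGeometry TopologicalSpace Opposite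

noncomputable section

namespace Groth.L20.CubeO

open Groth.L08.Cube

/-- Base change from one test object to another. -/
def tr {Q B T T' : Scheme.{u}} (q : Q ⟶ B) (w : T' ⟶ T) (u : T ⟶ B) {u' : T' ⟶ B} (h : w ≫ u = u') :
    pullback q u' ⟶ pullback q u :=
  pullback.lift (pullback.fst q u') (pullback.snd q u' ≫ w) (by rw [pullback.condition, Category.assoc, h])

@[reassoc (attr := simp)]
theorem tr_fst {Q B T T' : Scheme.{u}} (q : Q ⟶ B) (w : T' ⟶ T) (u : T ⟶ B) {u' : T' ⟶ B} (h : w ≫ u = u') :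
    tr q w u h ≫ pullback.fst q u = pullback.fst q u' := pullback.lift_fst _ _ _

@[reassoc (attr := simp)]
theorem tr_snd {Q B T T' : Scheme.{u}} (q : Q ⟶ B) (w : T' ⟶ T) (u : T ⟶ B) {u' : T' ⟶ B} (h : w ≫ u = u') :
    tr q w u h ≫ pullback.snd q u = pullback.snd q u' ≫ w := pullback.lift_snd _ _ _

theorem isPullback_tr {Q B T T' : Scheme.{u}} (q : Q ⟶ B) (w : T' ⟶ T) (u : T ⟶ B) {u' : T' ⟶ B} (h : w ≫ u = u') :
    IsPullback (tr q w u h) (pullback.snd q u') (pullback.snd q u) w := by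
  refine IsPullback.of_right ?_ (tr_snd q w u h) (IsPullback.of_hasPullback q u)
  rw [tr_fst, h]
  exact IsPullback.of_hasPullback q u'

theorem bijective_toGlobal_snd {Q B : Scheme.{u}} (q : Q ⟶ B)
    (hq : ∀ (T : Scheme.{u}) (t : T ⟶ B) (U : T.Opens), IsIso ((pullback.snd q t).app U)) {R : Type u} [CommRing R]
    (u : Spec (CommRingCat.of R) ⟶ B) : Function.Bijective (Coh.toGlobal (pullback.snd q u)) := by
  haveI := hq (Spec (CommRingCat.of R)) u ⊤
  exact (ConcreteCategory.bijective_of_isIso ((pullback.snd q u).app ⊤)).comp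
    (ConcreteCategory.bijective_of_isIso (Scheme.ΓSpecIso (CommRingCat.of R)).inv)

/-- A relative product of two pointed families. -/
structure Slices where
  /-- the base -/
  B : Scheme.{u}
  /-- the first family -/
  QX : Scheme.{u}
  /-- the second family -/
  QY : Scheme.{u}
  /-- the product -/
  P : Scheme.{u}
  qX : QX ⟶ B
  qY : QY ⟶ B
  pX : P ⟶ QX
  pY : P ⟶ QY
  hP : IsPullback pX pY qX qY
  properX : IsProper qX
  flatX : Flat qX
  lfpX : LocallyOfFinitePresentation qX
  oX : ∀ (T : Scheme.{u}) (t : T ⟶ B) (U : T.Opens), IsIso ((pullback.snd qX t).app U)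
  properY : IsProper qY
  flatY : Flat qY
  lfpY : LocallyOfFinitePresentation qY
  oY : ∀ (T : Scheme.{u}) (t : T ⟶ B) (U : T.Opens), IsIso ((pullback.snd qY t).app U)
  sX : QX ⟶ P
  sY : QY ⟶ P
  x : B ⟶ QX
  y : B ⟶ QY
  hx : x ≫ qX = 𝟙 B
  hy : y ≫ qY = 𝟙 B
  sX_pX : sX ≫ pX = 𝟙 QX
  sX_pY : sX ≫ pY = qX ≫ y
  sY_pY : sY ≫ pY = 𝟙 QY
  sY_pX : sY ≫ pX = qY ≫ x

namespace Slices

variable (D : Slices.{u})

attribute [instance] properX flatX lfpX properY flatY lfpY

/-- the structure map of the product -/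
def f : D.P ⟶ D.B := D.pX ≫ D.qX

theorem f_eq : D.pY ≫ D.qY = D.f := D.hP.w.symm

theorem sX_f : D.sX ≫ D.f = D.qX := by rw [f, reassoc_of% D.sX_pX]

theorem sY_f : D.sY ≫ D.f = D.qY := by rw [f, reassoc_of% D.sY_pX, D.hx, Category.comp_id]

instance : IsProper D.pX := MorphismProperty.of_isPullback D.hP.flip D.properY
instance : Flat D.pX := MorphismProperty.of_isPullback D.hP.flip D.flatY
instance : LocallyOfFinitePresentation D.pX := MorphismProperty.of_isPullback D.hP.flip D.lfpY
instance : IsProper D.f := by unfold f; infer_instance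
instance : Flat D.f := by unfold f; infer_instance
instance : LocallyOfFinitePresentation D.f := by unfold f; infer_instance

/-- projection of base changes -/
def prX {T : Scheme.{u}} (u : T ⟶ D.B) : pullback D.f u ⟶ pullback D.qX u :=
  pullback.lift (pullback.fst _ _ ≫ D.pX) (pullback.snd _ _) (by rw [Category.assoc]; exact pullback.condition)

/-- projection of base changes -/
def prY {T : Scheme.{u}} (u : T ⟶ D.B) : pullback D.f u ⟶ pullback D.qY u :=
  pullback.lift (pullback.fst _ _ ≫ D.pY) (pullback.snd _ _) (by rw [Category.assoc, D.f_eq]; exact pullback.condition)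

/-- slice of base changes -/
def slX {T : Scheme.{u}} (u : T ⟶ D.B) : pullback D.qX u ⟶ pullback D.f u :=
  pullback.lift (pullback.fst _ _ ≫ D.sX) (pullback.snd _ _) (by rw [Category.assoc, D.sX_f]; exact pullback.condition)

/-- slice of base changes -/
def slY {T : Scheme.{u}} (u : T ⟶ D.B) : pullback D.qY u ⟶ pullback D.f u :=
  pullback.lift (pullback.fst _ _ ≫ D.sY) (pullback.snd _ _) (by rw [Category.assoc, D.sY_f]; exact pullback.condition)

/-- point of base changes -/
def ptX {T : Scheme.{u}} (u : T ⟶ D.B) : T ⟶ pullback D.qX u :=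
  pullback.lift (u ≫ D.x) (𝟙 T) (by rw [Category.assoc, D.hx, Category.comp_id, Category.id_comp])

/-- point of base changes -/
def ptY {T : Scheme.{u}} (u : T ⟶ D.B) : T ⟶ pullback D.qY u :=
  pullback.lift (u ≫ D.y) (𝟙 T) (by rw [Category.assoc, D.hy, Category.comp_id, Category.id_comp])

section

variable {T : Scheme.{u}} (u : T ⟶ D.B)

@[reassoc (attr := simp)] theorem prX_fst : D.prX u ≫ pullback.fst _ _ = pullback.fst _ _ ≫ D.pX := pullback.lift_fst _ _ _
@[reassoc (attr := simp)] theorem prX_snd : D.prX u ≫ pullback.snd _ _ = pullback.snd _ _ := pullback.lift_snd _ _ _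
@[reassoc (attr := simp)] theorem prY_fst : D.prY u ≫ pullback.fst _ _ = pullback.fst _ _ ≫ D.pY := pullback.lift_fst _ _ _
@[reassoc (attr := simp)] theorem prY_snd : D.prY u ≫ pullback.snd _ _ = pullback.snd _ _ := pullback.lift_snd _ _ _
@[reassoc (attr := simp)] theorem slX_fst : D.slX u ≫ pullback.fst _ _ = pullback.fst _ _ ≫ D.sX := pullback.lift_fst _ _ _
@[reassoc (attr := simp)] theorem slX_snd : D.slX u ≫ pullback.snd _ _ = pullback.snd _ _ := pullback.lift_snd _ _ _
@[reassoc (attr := simp)] theorem slY_fst : D.slY u ≫ pullback.fst _ _ = pullback.fst _ _ ≫ D.sY := pullback.lift_fst _ _ _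
@[reassoc (attr := simp)] theorem slY_snd : D.slY u ≫ pullback.snd _ _ = pullback.snd _ _ := pullback.lift_snd _ _ _
@[reassoc (attr := simp)] theorem ptX_fst : D.ptX u ≫ pullback.fst _ _ = u ≫ D.x := pullback.lift_fst _ _ _
@[reassoc (attr := simp)] theorem ptX_snd : D.ptX u ≫ pullback.snd _ _ = 𝟙 T := pullback.lift_snd _ _ _
@[reassoc (attr := simp)] theorem ptY_fst : D.ptY u ≫ pullback.fst _ _ = u ≫ D.y := pullback.lift_fst _ _ _
@[reassoc (attr := simp)] theorem ptY_snd : D.ptY u ≫ pullback.snd _ _ = 𝟙 T := pullback.lift_snd _ _ _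

theorem isPullback_pr : IsPullback (D.prX u) (D.prY u) (pullback.snd D.qX u) (pullback.snd D.qY u) := by
  have sq1 : IsPullback (pullback.fst D.f u) (D.prY u) D.pY (pullback.fst D.qY u) := by
    refine IsPullback.of_bot ?_ (D.prY_fst u).symm (IsPullback.of_hasPullback D.qY u)
    rw [prY_snd, D.f_eq]
    exact IsPullback.of_hasPullback D.f u
  have sq2 := sq1.paste_horiz D.hP
  rw [pullback.condition] at sq2
  refine IsPullback.of_right ?_ (by simp) (IsPullback.of_hasPullback D.qX u)
  rw [prX_fst]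
  exact sq2

end

theorem tr_prX {T T' : Scheme.{u}} (w : T' ⟶ T) (u : T ⟶ D.B) {u' : T' ⟶ D.B} (h : w ≫ u = u') :
    tr D.f w u h ≫ D.prX u = D.prX u' ≫ tr D.qX w u h := by
  apply pullback.hom_ext <;> simp

theorem tr_prY {T T' : Scheme.{u}} (w : T' ⟶ T) (u : T ⟶ D.B) {u' : T' ⟶ D.B} (h : w ≫ u = u') :
    tr D.f w u h ≫ D.prY u = D.prY u' ≫ tr D.qY w u h := by
  apply pullback.hom_ext <;> simp

theorem tr_slX {T T' : Scheme.{u}} (w : T' ⟶ T) (u : T ⟶ D.B) {u' : T' ⟶ D.B} (h : w ≫ u = u') :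
    tr D.qX w u h ≫ D.slX u = D.slX u' ≫ tr D.f w u h := by
  apply pullback.hom_ext <;> simp

theorem tr_slY {T T' : Scheme.{u}} (w : T' ⟶ T) (u : T ⟶ D.B) {u' : T' ⟶ D.B} (h : w ≫ u = u') :
    tr D.qY w u h ≫ D.slY u = D.slY u' ≫ tr D.f w u h := by
  apply pullback.hom_ext <;> simp

variable (L : D.P.Modules) (hL : PicF.IsInvertible L)
  (hX : Nonempty ((Scheme.Modules.pullback D.sX).obj L ≅ Coh.structureModule D.QX))
  (hY : Nonempty ((Scheme.Modules.pullback D.sY).obj L ≅ Coh.structureModule D.QY))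

include hL hX hY

/-- Triviality spreads across a small extension of a local base. -/
theorem trivial_of_killed {R k B₁ : Type u} [CommRing R] [Field k] [Algebra R k] [CommRing B₁] [Algebra R B₁]
    (hk : Function.Surjective (algebraMap R k)) (hk₁ : Function.Surjective (algebraMap R B₁))
    (π : B₁ →+* k) (hπ : π.comp (algebraMap R B₁) = algebraMap R k)
    (hJfg : (RingHom.ker (algebraMap R B₁)).FG)
    (hmJ : RingHom.ker (algebraMap R k) * RingHom.ker (algebraMap R B₁) = ⊥)
    (u : Spec (CommRingCat.of R) ⟶ D.B)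
    (h₁ : Nonempty ((Scheme.Modules.pullback (pullback.fst D.f
      (Spec.map (CommRingCat.ofHom (algebraMap R B₁)) ≫ u))).obj L ≅ Coh.structureModule _)) :
    Nonempty ((Scheme.Modules.pullback (pullback.fst D.f u)).obj L ≅ Coh.structureModule _) := by
  classical
  let w₀ := Spec.map (CommRingCat.ofHom (algebraMap R k))
  let w₁ := Spec.map (CommRingCat.ofHom (algebraMap R B₁))
  let wπ := Spec.map (CommRingCat.ofHom π)
  have hw : wπ ≫ w₁ = w₀ := by
    simp only [wπ, w₁, w₀]
    rw [← Spec.map_comp, ← hπ]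
    rfl
  let u₁ := w₁ ≫ u
  let v := w₀ ≫ u
  haveI : IsAffineHom w₀ := inferInstance
  haveI : IsAffineHom (tr D.qX w₀ u (rfl : w₀ ≫ u = v)) := MorphismProperty.of_isPullback (isPullback_tr D.qX w₀ u rfl).flip ‹IsAffineHom w₀›
  haveI : IsAffineHom (tr D.qY w₀ u (rfl : w₀ ≫ u = v)) := MorphismProperty.of_isPullback (isPullback_tr D.qY w₀ u rfl).flip ‹IsAffineHom w₀›
  haveI : Flat (pullback.snd D.f u) := inferInstance
  haveI hsep : ∀ {Q : Scheme.{u}} (q : Q ⟶ D.B) [IsProper q] {S : CommRingCat.{u}} (s : Spec S ⟶ D.B),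
      (pullback q s).IsSeparated := fun q _ _ s => ⟨by rw [← terminal.comp_from (pullback.snd q s)]; infer_instance⟩
  haveI : (pullback D.f u).IsSeparated := hsep D.f u
  haveI : (pullback D.qX u).IsSeparated := hsep D.qX u
  haveI : (pullback D.qY u).IsSeparated := hsep D.qY u
  haveI : (pullback D.qX v).IsSeparated := hsep D.qX v
  haveI : (pullback D.qY v).IsSeparated := hsep D.qY v
  haveI hcpt : ∀ {Q : Scheme.{u}} (q : Q ⟶ D.B) [IsProper q] {S : CommRingCat.{u}} (s : Spec S ⟶ D.B),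
      CompactSpace (pullback q s : Scheme.{u}) := fun q _ _ s => QuasiCompact.compactSpace_of_compactSpace (pullback.snd q s)
  haveI : CompactSpace (pullback D.qX u : Scheme.{u}) := hcpt D.qX u
  haveI : CompactSpace (pullback D.qY u : Scheme.{u}) := hcpt D.qY u
  haveI : CompactSpace (pullback D.qX v : Scheme.{u}) := hcpt D.qX v
  haveI : IsClosedImmersion (D.slX u) := by
    haveI : IsClosedImmersion (D.slX u ≫ D.prX u) := by
      rw [show D.slX u ≫ D.prX u = 𝟙 _ from pullback.hom_ext (by simp [D.sX_pX]) (by simp)]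
      infer_instance
    exact IsClosedImmersion.of_comp (D.slX u) (D.prX u)
  haveI : IsClosedImmersion (D.slY u) := by
    haveI : IsClosedImmersion (D.slY u ≫ D.prY u) := by
      rw [show D.slY u ≫ D.prY u = 𝟙 _ from pullback.hom_ext (by simp [D.sY_pY]) (by simp)]
      infer_instance
    exact IsClosedImmersion.of_comp (D.slY u) (D.prY u)
  let M := (Scheme.Modules.pullback (pullback.fst D.f u)).obj L
  have hM : PicF.IsInvertible M := Groth.L18.Ample.isInvertible_pullback _ hL
  obtain ⟨θ₁⟩ := trivial_of_eq (tr D.f w₁ u (rfl : w₁ ≫ u = u₁)) (pullback.fst D.f u) (tr_fst _ _ _ _) L h₁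
  obtain ⟨θX⟩ := trivial_of_eq (D.slX u) (pullback.fst D.f u) (D.slX_fst u) L
    (trivial_comp (pullback.fst D.qX u) D.sX rfl L hX)
  obtain ⟨θY⟩ := trivial_of_eq (D.slY u) (pullback.fst D.f u) (D.slY_fst u) L
    (trivial_comp (pullback.fst D.qY u) D.sY rfl L hY)
  obtain ⟨σ, O, hO, hσ⟩ := exists_frame_of_killed (R := R) (k := k) (B₁ := B₁)
    (fP := pullback.snd D.f u) (fQX := pullback.snd D.qX u) (fQY := pullback.snd D.qY u)
    (pX := D.prX u) (pY := D.prY u) (sX := D.slX u) (sY := D.slY u)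
    (fX := pullback.snd D.qX v) (fY := pullback.snd D.qY v) (p := D.prX v) (q := D.prY v)
    (g₀ := tr D.f w₀ u rfl) (gX := tr D.qX w₀ u rfl) (gY := tr D.qY w₀ u rfl) (jX := D.slX v) (jY := D.slY v)
    (fP₁ := pullback.snd D.f u₁) (g₁ := tr D.f w₁ u rfl)
    (u₀ := tr D.f wπ u₁ (show wπ ≫ u₁ = v by simp only [u₁, v]; rw [← Category.assoc, hw]))
    (fX₁ := pullback.snd D.qX u₁) (gX₁ := tr D.qX w₁ u rfl)
    (fY₁ := pullback.snd D.qY u₁) (gY₁ := tr D.qY w₁ u rfl)
    hk hk₁ hJfg hmJ (D.isPullback_pr u) (D.prX_snd u) (D.isPullback_pr v)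
    (bijective_toGlobal_snd D.qX D.oX v) (bijective_toGlobal_snd D.qY D.oY v)
    (bijective_toGlobal_snd D.qX D.oX u₁) (bijective_toGlobal_snd D.qY D.oY u₁)
    (by rw [prX_snd]; exact isPullback_tr D.f w₀ u rfl) (D.tr_prX w₀ u rfl) (D.tr_prY w₀ u rfl)
    (isPullback_tr D.qX w₀ u rfl) (isPullback_tr D.qY w₀ u rfl) (isPullback_tr D.f w₁ u rfl)
    (isPullback_tr D.qX w₁ u rfl) (isPullback_tr D.qY w₁ u rfl)
    (by apply pullback.hom_ext <;> simp [hw])
    (D.ptX v) (D.ptY v) (D.ptY_snd v)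
    (pullback.hom_ext (by simp [D.sX_pX]) (by simp))
    (pullback.hom_ext (by simp [D.sX_pY, pullback.condition_assoc]) (by simp))
    (pullback.hom_ext (by simp [D.sY_pY]) (by simp))
    (pullback.hom_ext (by simp [D.sY_pX, pullback.condition_assoc]) (by simp))
    (D.slX_snd u) (D.tr_slX w₀ u rfl) (D.slY_snd u) (D.tr_slY w₀ u rfl) M hM θ₁ θX θY
  refine nonempty_iso_of_frame_top (hσ.mono fun p _ => ?_)
  have hr : pullback.snd D.f u p ∈ Set.range w₁ := by
    have hnil : RingHom.ker (algebraMap R B₁) ≤ (pullback.snd D.f u p).asIdeal := fun z hz => by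
      have hP := (pullback.snd D.f u p).isPrime
      refine (hP.mem_or_mem (?_ : z * z ∈ (pullback.snd D.f u p).asIdeal)).elim id id
      have hzk : z ∈ RingHom.ker (algebraMap R k) := by
        rw [RingHom.mem_ker, ← hπ, RingHom.comp_apply, RingHom.mem_ker.1 hz, map_zero]
      have h0 : z * z ∈ (⊥ : Ideal R) := hmJ ▸ Ideal.mul_mem_mul hzk hz
      rw [Ideal.mem_bot.1 h0]
      exact zero_mem _
    have h := range_comap_of_surjective _ _ hk₁
    exact h.ge hnil
  obtain ⟨t, ht⟩ := hr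
  obtain ⟨p₁, hp₁, -⟩ := Scheme.exists_preimage_of_isPullback (isPullback_tr D.f w₁ u rfl) p t ht.symm
  exact hp₁ ▸ hO p₁

end Slices

end Groth.L20.CubeO
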